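import Cfsg.Agent.Mrg.Omega.Lie.CenSL
import Cfsg.Agent.KFacts.FiTT.Final
import Cfsg.Agent.Omega.KFactsZS_m3
import Cfsg.Agent.KFacts.FiTTh.Has
import Cfsg.Agent.FastGrp
import Cfsg.Agent.Prune
set_option linter.all false
prune_inst 0x7f00000000000000000000000000000000000000000000000000000000000000000000000000000000000000000000000000000000000000000000000000000000000000000000000000000000000000003fffffffffffffffffffffffffffbeffbdffffffff
open scoped Cfsg.Agent.FastGrp

section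


/-!
# (ZS), the row `Fi22` (helper918)
-/

set_option autoImplicit false

namespace Cfsg.Agent.Omega.Lie.Cen

open Cfsg Subgroup Cfsg.Agent.Omega.Lie.CenTwo

theorem cenTwo_fi22 {K : Type*} [Group K] (h : Spor.IsoFi22 K) : CenTwo.CenTwo K := by
  obtain ⟨d, d', R, F⟩ := KFacts.FiTT.has_of_iso h
  have : Finite K := Nat.finite_of_card_ne_zero (by rw [F.card]; norm_num)
  have hodd : ¬ 2 ∣ (centralizer ({d * d'} : Set K)).index := by
    intro h
    have := F.odd
    rw [← Nat.not_even_iff_odd] at this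
    exact this (even_iff_two_dvd.2 h)
  obtain ⟨S, hS⟩ := exists_sylow_le hodd
  exact ⟨S, d * d', fun u hu hc _ => F.center_S S hS u hu fun y hy => (hc y hy).symm⟩

theorem fi22 {X : Type*} [Group X] (h : Spor.IsoFi22 X) : NoCenMove X := by
  obtain ⟨d, d', R, F⟩ := KFacts.FiTT.has_of_iso h
  have : Finite X := Nat.finite_of_card_ne_zero (by rw [F.card]; norm_num)
  exact (cenTwo_fi22 h).noCenMove

end Cfsg.Agent.Omega.Lie.Cen

end

section


/-!
# (ZS), the row `Fi23` (helper918)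

`S ≤ C(d)`, `d` a transposition. `noCenMove_of_quot`: if `|Ω₁ Z(S/⟨d⟩)| ≤ 2` and the automorphisms of odd order
normalising `S` fix `d`, then `NoCenMove`. `τ d ≠ d` is impossible: `τ d ∈ Z(S)` is a transposition, and an element
interchanging `d` and `τ d` contradicts Sylow (`CenAlt.mem_of_odd`).
-/

set_option autoImplicit false
set_option maxRecDepth 100000

namespace Cfsg.Agent.Omega.Lie.Cen

open Cfsg Subgroup Cfsg.Agent.Omega.Lie.CenTwo

/-- an automorphism of odd order which maps `u` to `u d`, `d` a fixed involution, fixes `u` -/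
theorem fix_of_mul {X : Type*} [Group X] {τ : MulAut X} (hτ : Odd (orderOf τ)) {d u : X} (hd : τ d = d)
    (dd : d * d = 1) (h : τ u = u ∨ τ u = u * d) : τ u = u := by
  rcases h with h | h
  · exact h
  · obtain ⟨n, hn⟩ := hτ
    have h2 : (τ ^ 2) u = u := by
      rw [pow_two, MulAut.mul_apply, h, map_mul, h, hd, mul_assoc, dd, mul_one]
    have h3 : ∀ n : ℕ, ((τ ^ 2) ^ n) u = u := by
      intro n
      induction n with
      | zero => rfl
      | succ n ih => rw [pow_succ, MulAut.mul_apply, h2, ih]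
    have h4 : (τ ^ orderOf τ) u = u := by rw [pow_orderOf_eq_one]; rfl
    rw [hn, pow_succ, pow_mul, MulAut.mul_apply] at h4
    have h5 : ((τ ^ 2) ^ n) (τ u) = ((τ ^ 2) ^ n) u := by rw [h4, h3]
    exact ((τ ^ 2) ^ n).injective h5

/-- `K/⟨d⟩ = Y` with `|Ω₁ Z| ≤ 2`, `K` of odd index, and `d` is fixed -/
theorem noCenMove_of_quot {X : Type*} [Group X] [Finite X] {K : Subgroup X} {d : X} (hodd : ¬ 2 ∣ K.index)
    (dd : d * d = 1) {Y : Type*} [Group Y] (π : K →* Y) (hπ : Function.Surjective π)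
    (hker : ∀ k : K, π k = 1 → (k : X) = 1 ∨ (k : X) = d) (hY : CenTwo.CenTwo Y)
    (hfix : ∀ (S : Sylow 2 X) (τ : MulAut X), Odd (orderOf τ) → (∀ x ∈ S, τ x ∈ S) → (S : Subgroup X) ≤ K →
      τ d = d) : NoCenMove X := by
  have : Fact (Nat.Prime 2) := ⟨Nat.prime_two⟩
  have : Finite Y := Finite.of_surjective π hπ
  obtain ⟨S, hS⟩ := exists_sylow_le hodd
  refine NoCenMove.of_one (S := S) fun τ hτ hτS u hu hc huu => ?_
  have hd := hfix S τ hτ hτS hS
  let S' : Sylow 2 Y := (S.subtype hS).mapSurjective hπ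
  have hS' : ∀ y, y ∈ S' ↔ ∃ x : K, (x : X) ∈ S ∧ π x = y := fun y => Iff.rfl
  have hcen : ∀ (v : X) (hv : v ∈ S), (∀ x ∈ S, x * v = v * x) → ∀ y ∈ S', y * π ⟨v, hS hv⟩ = π ⟨v, hS hv⟩ * y := by
    intro v hv hcv y hy
    obtain ⟨x, hx, rfl⟩ := (hS' y).1 hy
    rw [← map_mul, ← map_mul]
    exact congrArg π (Subtype.ext (hcv x hx))
  have hsq : ∀ (v : X) (hv : v ∈ S), v * v = 1 → π ⟨v, hS hv⟩ * π ⟨v, hS hv⟩ = 1 := by
    intro v hv hvv
    rw [← map_mul]
    have : (⟨v, hS hv⟩ * ⟨v, hS hv⟩ : K) = 1 := Subtype.ext hvv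
    rw [this, map_one]
  have hcτ : ∀ x ∈ S, x * τ u = τ u * x := by
    intro x hx
    obtain ⟨y, hy, rfl⟩ := exists_preimage (S := (S : Subgroup X)) hτS hx
    rw [← map_mul, hc y hy, map_mul]
  have huu' : τ u * τ u = 1 := by rw [← map_mul, huu, map_one]
  by_cases h1 : π ⟨u, hS hu⟩ = 1
  · rcases hker _ h1 with h | h
    · have h' : u = 1 := h
      rw [h', map_one]
    · have h' : u = d := h
      rw [h', hd]
  by_cases h2 : π ⟨τ u, hS (hτS u hu)⟩ = 1
  · rcases hker _ h2 with h | h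
    · have h' : τ u = 1 := h
      have h3 : u = 1 := τ.injective (h'.trans (map_one τ).symm)
      rw [h3, map_one]
    · have h' : τ u = d := h
      have h3 : u = d := τ.injective (h'.trans hd.symm)
      rw [h3, hd]
  · have h3 := hY.all S' (u := π ⟨u, hS hu⟩) (v := π ⟨τ u, hS (hτS u hu)⟩)
      ((hS' _).2 ⟨_, hu, rfl⟩) (hcen u hu hc) (hsq u hu huu) h1
      ((hS' _).2 ⟨_, hτS u hu, rfl⟩) (hcen _ (hτS u hu) hcτ) (hsq _ (hτS u hu) huu') h2
    have h4 : π (⟨u, hS hu⟩⁻¹ * ⟨τ u, hS (hτS u hu)⟩) = 1 := by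
      rw [map_mul, map_inv, h3, inv_mul_cancel]
    apply fix_of_mul hτ hd dd
    rcases hker _ h4 with h | h
    · left
      have h' : u⁻¹ * τ u = 1 := h
      exact (inv_mul_eq_one.1 h').symm
    · right
      have h' : u⁻¹ * τ u = d := h
      rw [← h']; group

/-- two commuting transpositions are interchanged by an element -/
theorem exists_swap {G X : Type*} [Group G] [MulAction G X] (R : Fischer.Abstract.Rank3 G X) {x : X}
    (hne : x ≠ R.x0) (hc : R.Com R.x0 x) : ∃ k : G, k • R.x0 = x ∧ k • x = R.x0 := by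
  obtain ⟨g, hg⟩ := R.trans x
  have h1 : R.Com R.x0 (g⁻¹ • R.x0) := by
    have h2 := (R.com_smul g⁻¹ R.x0 x).2 hc
    rw [← hg, inv_smul_smul] at h2
    exact R.com_symm h2
  obtain h | ⟨a, ha0, hac⟩ := R.com_x0_iff.1 hc
  · exact absurd h hne
  obtain h | ⟨b, hb0, hbc⟩ := R.com_x0_iff.1 h1
  · exfalso
    apply hne
    have h2 : g • R.x0 = R.x0 := by
      calc g • R.x0 = g • (g⁻¹ • R.x0) := by rw [h]
        _ = R.x0 := smul_inv_smul _ _
    rw [← hg, h2]
  have ha0' : a⁻¹ • R.x0 = R.x0 := by rw [inv_smul_eq_iff, ha0]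
  have hac' : a⁻¹ • x = R.c := by rw [inv_smul_eq_iff, hac]
  refine ⟨g * (b * a⁻¹), ?_, ?_⟩
  · rw [mul_smul, mul_smul, ha0', hb0, hg]
  · rw [mul_smul, mul_smul, hac', hbc, smul_inv_smul]

open Cfsg.Agent.Fischer Cfsg.Agent.Fischer.Fi23Hom Cfsg.Agent.Fischer.Fi23Class Cfsg.Agent.Fischer.Fi23Z
open Cfsg.Agent.KFacts.FiTTh Cfsg.Agent.KFacts.FiTTh.Cent

theorem finite_fi23 : Finite Spor.Fi23 :=
  Nat.finite_of_card_ne_zero (by rw [Cfsg.Agent.Fischer.Fi23Simple.card_Fi23]; norm_num)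

theorem index_K : ¬ 2 ∣ (K : Subgroup Spor.Fi23).index := by
  rw [Cfsg.Agent.SporRec.Fi23Index.index_H]; norm_num

/-- the transposition `z0` is fixed by the automorphisms which normalise a Sylow subgroup of `C(z0)` -/
theorem fix_z0 (S : Sylow 2 Spor.Fi23) (τ : MulAut Spor.Fi23) (_ : Odd (orderOf τ)) (hS : ∀ x ∈ S, τ x ∈ S)
    (hK : (S : Subgroup Spor.Fi23) ≤ K) : τ z0 = z0 := by
  have := finite_fi23
  obtain ⟨R, hR, -⟩ := exists_rank3 card_le
  obtain ⟨g, rfl⟩ := Has.inn τ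
  by_contra hne
  -- `z0 ∈ S`
  have hz : z0 ∈ (S : Subgroup Spor.Fi23) := by
    have hp : IsPGroup 2 (zpowers (z0 : Spor.Fi23)) := by
      apply IsPGroup.of_card (n := 1)
      rw [Nat.card_zpowers, pow_one]
      exact orderOf_eq_prime (by rw [pow_two]; exact zz) BasFi.z0_ne
    have h1 := CenAlt.le_of_norm S (zpowers (z0 : Spor.Fi23)) hp (by
      intro s hs e he
      obtain ⟨n, rfl⟩ := mem_zpowers_iff.1 he
      have h2 : s * z0 = z0 * s := (mem_K_iff s).1 (hK hs)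
      have h3 : s * z0 ^ n = z0 ^ n * s := (Commute.zpow_right (show Commute s z0 from h2) n).eq
      rw [h3, mul_inv_cancel_right]
      exact he)
    exact h1 (mem_zpowers _)
  -- all elements of `S` commute with the image
  have hcS : ∀ x ∈ S, x * MulAut.conj g z0 = MulAut.conj g z0 * x := by
    intro x hx
    obtain ⟨y, hy, rfl⟩ := exists_preimage (S := (S : Subgroup Spor.Fi23)) hS hx
    rw [← map_mul, (mem_K_iff y).1 (hK hy), map_mul]
  have h0 : R.t (g • R.x0) = MulAut.conj g z0 := by rw [R.map_smul, hR, MulAut.conj_apply]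
  have hne' : g • R.x0 ≠ R.x0 := by
    intro h
    apply hne
    rw [← h0, h, hR]
  have hcom : R.Com R.x0 (g • R.x0) := by
    rw [R.com_def, h0, hR]
    exact hcS _ hz
  obtain ⟨k, hk0, hk1⟩ := exists_swap R hne' hcom
  let C : Subgroup Spor.Fi23 := MulAction.stabilizer Spor.Fi23 R.x0 ⊓ MulAction.stabilizer Spor.Fi23 (g • R.x0)
  have hC : ∀ c, c ∈ C ↔ c • R.x0 = R.x0 ∧ c • (g • R.x0) = g • R.x0 := fun c => by
    rw [mem_inf, MulAction.mem_stabilizer_iff, MulAction.mem_stabilizer_iff]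
  have hSC : (S : Subgroup Spor.Fi23) ≤ C := by
    intro s hs
    rw [hC, R.smul_eq_iff_comm, R.smul_eq_iff_comm, hR, h0]
    exact ⟨(mem_K_iff s).1 (hK hs), hcS s hs⟩
  have hk0' : k⁻¹ • R.x0 = g • R.x0 := by rw [inv_smul_eq_iff, hk1]
  have hk1' : k⁻¹ • (g • R.x0) = R.x0 := by rw [inv_smul_eq_iff, hk0]
  have h5 := CenAlt.mem_of_odd S C hSC (y := k) (by
    intro c hc
    obtain ⟨hc1, hc2⟩ := (hC c).1 hc
    rw [hC]
    refine ⟨?_, ?_⟩
    · rw [mul_smul, mul_smul, hk0', hc2, hk1]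
    · rw [mul_smul, mul_smul, hk1', hc1, hk0]) (by
    rw [hC]
    refine ⟨?_, ?_⟩
    · rw [mul_smul, hk0, hk1]
    · rw [mul_smul, hk1, hk0])
  have h6 : k • R.x0 = R.x0 := ((hC k).1 h5).1
  exact hne' (hk0.symm.trans h6)

theorem noCenMove_fi23 : NoCenMove Spor.Fi23 := by
  have := finite_fi23
  obtain ⟨-, ⟨e⟩, -⟩ := Quasi.cover
  refine noCenMove_of_quot index_K zz (e.toMonoidHom.comp (QuotientGroup.mk' (center K)))
    (e.surjective.comp (QuotientGroup.mk'_surjective _)) ?_ (cenTwo_fi22 ⟨MulEquiv.refl _⟩) fix_z0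
  intro k hk
  have h1 : (QuotientGroup.mk' (center K)) k = 1 := e.injective (hk.trans (map_one e).symm)
  have h2 : k ∈ center K := (QuotientGroup.eq_one_iff k).1 h1
  apply Quasi.cen
  intro y hy
  have h3 := mem_center_iff.1 h2 ⟨y, (mem_K_iff y).2 hy⟩
  exact (congrArg Subtype.val h3).symm

theorem fi23 {X : Type*} [Group X] (h : Spor.IsoFi23 X) : NoCenMove X := by
  obtain ⟨e⟩ := h
  have := finite_fi23
  have : Finite X := Finite.of_equiv _ e.symm.toEquiv
  exact noCenMove_fi23.map e.symm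

end Cfsg.Agent.Omega.Lie.Cen

end
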